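import Groth.Agent.S1712
import Groth.Agent.LC.TopDim3
import Groth.Agent.LC.DualCM
import Groth.Agent.LC.CdDim
import Groth.Agent.LC.ExtDim

/-!
# Serre's conditions through Ext into a dualizing complex
-/

set_option autoImplicit false
set_option linter.unusedSectionVars false

universe u

open CategoryTheory

attribute [local instance] HasDerivedCategory.standard

namespace Groth.Agent.H1SkDual

theorem top_nontrivial {B : Type u} [CommRing B] [IsLocalRing B] [IsNoetherianRing B] {ω : Dual.D B}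
    (hω : Dual.IsDualizing B ω) (hN : Dual.IsNormalized B ω) (N : Type u) [AddCommGroup N] [Module B N]
    [Module.Finite B N] (d : ℕ) (hd : Module.supportDim B N = d) :
    Nontrivial (Dual.inD B N ⟶ ω⟦-(d : ℤ)⟧) := by
  haveI : Nonempty (Module.support B N) := by
    by_contra h
    rw [not_nonempty_iff] at h
    have : Module.supportDim B N = ⊥ := Order.krullDim_eq_bot
    rw [hd] at this
    exact absurd this (by simp)
  obtain ⟨l, hl⟩ := Order.le_krullDim_iff.1 (show (d : WithBot ℕ∞) ≤ Order.krullDim (Module.support B N) from hd.ge)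
  let q : Module.support B N := l.head
  have hmin : ∀ r : Module.support B N, ¬ r < q := fun r hr => by
    have h1 := Order.LTSeries.length_le_krullDim (l.cons r hr)
    rw [RelSeries.cons_length, hl] at h1
    have h2 : ((d + 1 : ℕ) : WithBot ℕ∞) ≤ (d : WithBot ℕ∞) := h1.trans hd.le
    exact absurd (Nat.cast_le.1 h2) (by omega)
  have hq := q.2
  have hco : (Order.coheight q.1 : WithBot ℕ∞) = d := by
    refine le_antisymm ((LC.coheight_le_supportDim hq).trans hd.le) ?_
    have h1 := Order.length_le_coheight (x := q.1)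
      (p := l.map Subtype.val (fun _ _ h => h)) (le_refl _)
    rw [LTSeries.map_length, hl] at h1
    have h2 : ((d : ℕ∞) : WithBot ℕ∞) ≤ (Order.coheight q.1 : WithBot ℕ∞) := WithBot.coe_le_coe.2 h1
    exact h2
  have hquot : ringKrullDim (B ⧸ q.1.asIdeal) = d := (LC.coheight_eq_ringKrullDim_quotient q.1).symm.trans hco
  have hann : q.1.asIdeal ∈ (Module.annihilator B N).minimalPrimes := by
    refine ⟨⟨q.1.isPrime, (Module.mem_support_iff_of_finite).1 hq⟩, fun J hJ hle => ?_⟩
    by_contra hne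
    exact hmin ⟨⟨J, hJ.1⟩, (Module.mem_support_iff_of_finite).2 hJ.2⟩ (lt_of_le_not_ge hle hne)
  have h0 : Module.supportDim (Localization.AtPrime q.1.asIdeal) (LocalizedModule q.1.asIdeal.primeCompl N) = 0 :=
    LC.supportDim_localized_minimalPrimes (R := B) (M := N) hann
  haveI : Nontrivial (LocalizedModule q.1.asIdeal.primeCompl N) := Module.mem_support_iff.1 hq
  haveI : Module.Finite (Localization.AtPrime q.1.asIdeal) (LocalizedModule q.1.asIdeal.primeCompl N) :=
    Module.Finite.of_isLocalizedModule q.1.asIdeal.primeCompl (LocalizedModule.mkLinearMap q.1.asIdeal.primeCompl N)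
  obtain ⟨t, ht⟩ := LC.exists_depth_eq_nat (R := Localization.AtPrime q.1.asIdeal)
    (LocalizedModule q.1.asIdeal.primeCompl N)
  have ht0 : t = 0 := by
    have := LC.depth_le_supportDim (R := Localization.AtPrime q.1.asIdeal) (LocalizedModule q.1.asIdeal.primeCompl N)
    rw [ht, h0] at this
    have h' : ((t : ℕ) : WithBot ℕ∞) ≤ ((0 : ℕ) : WithBot ℕ∞) := this
    exact Nat.le_zero.1 (Nat.cast_le.1 h')
  subst ht0
  obtain ⟨j, hj, hjs⟩ := (Groth.Agent.S1712.result B ω hω hN N d q.1).2 (by
    rw [ht, hquot]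
    show ((0 : ℕ) : WithBot ℕ∞) + ((d : ℕ) : WithBot ℕ∞) ≤ ((d : ℕ) : WithBot ℕ∞)
    rw [← Nat.cast_add, Nat.zero_add])
  have hjd : d ≤ j := by
    have h := (Groth.Agent.S1712.result B ω hω hN N j q.1).1 ⟨j, le_rfl, hjs⟩
    rw [ht, hquot] at h
    have h' : ((0 : ℕ) : WithBot ℕ∞) + ((d : ℕ) : WithBot ℕ∞) ≤ ((j : ℕ) : WithBot ℕ∞) := h
    rw [← Nat.cast_add, Nat.zero_add] at h'
    exact Nat.cast_le.1 h'
  obtain rfl : j = d := by omega
  by_contra hc
  rw [not_nontrivial_iff_subsingleton] at hc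
  rw [Module.mem_support_iff] at hjs
  haveI := hc
  exact not_subsingleton (LocalizedModule q.1.asIdeal.primeCompl (Dual.inD B N ⟶ ω⟦-(j : ℤ)⟧))
    inferInstance

theorem hasSk_iff {A : Type u} [CommRing A] [IsNoetherianRing A]
    (ω : Dual.D A) (hω : Dual.IsDualizing A ω) (M : Type u) [AddCommGroup M] [Module A M] [Module.Finite A M]
    (k : ℕ) (hk : 1 ≤ k) :
    LocCoh.HasSk k A M ↔
      ∀ (i j : ℤ), j < i → ∀ p : PrimeSpectrum A,
        p ∈ Module.support A (Dual.inD A M ⟶ ω⟦i⟧) → p ∈ Module.support A (Dual.inD A M ⟶ ω⟦j⟧) →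
          (((k : ℤ) + i - j).toNat : WithBot ℕ∞) ≤
            Module.supportDim (Localization.AtPrime p.asIdeal) (LocalizedModule p.asIdeal.primeCompl M) := by
  obtain ⟨n, hn, -, -, -⟩ := Groth.Agent.KFlatLib.exists_extDegree hω
  constructor
  · intro hS i j hij p hi hj
    obtain ⟨ω', h1, h2, h3⟩ := Groth.Agent.PerfGen7.LocalizeDual.exists_local hω hn p
    let B := Localization.AtPrime p.asIdeal
    let N := LocalizedModule p.asIdeal.primeCompl M
    haveI : Module.Finite B N :=
      Module.Finite.of_isLocalizedModule p.asIdeal.primeCompl (LocalizedModule.mkLinearMap p.asIdeal.primeCompl M)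
    haveI : Nontrivial N := Module.mem_support_iff.1 (Groth.Agent.KFlatLib.support_hom_subset M (ω⟦i⟧) hi)
    have key : ∀ l : ℤ, p ∈ Module.support A (Dual.inD A M ⟶ ω⟦n p + l⟧) → Nontrivial (Dual.inD B N ⟶ ω'⟦l⟧) :=
      fun l hl => by
        obtain ⟨c⟩ := h3 M l
        exact c.toEquiv.nontrivial_congr.2 (Module.mem_support_iff.1 hl)
    obtain ⟨d, hd⟩ := LC.exists_supportDim_eq_nat (R := B) N
    obtain ⟨t, ht⟩ := LC.exists_depth_eq_nat (R := B) N
    have hkt := hS p.asIdeal
    rw [hd, ht] at hkt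
    have hkt' : min k d ≤ t := by
      rcases le_total k d with hkd | hkd
      · rw [min_eq_left (by exact_mod_cast hkd)] at hkt
        exact (min_le_left _ _).trans (Nat.cast_le.1 hkt)
      · rw [min_eq_right (by exact_mod_cast hkd)] at hkt
        exact (min_le_right _ _).trans (Nat.cast_le.1 hkt)
    have amp : ∀ l : ℤ, Nontrivial (Dual.inD B N ⟶ ω'⟦l⟧) → -(d : ℤ) ≤ l ∧ l ≤ -(t : ℤ) := fun l hl => by
      obtain ⟨a1, a2⟩ := (Groth.Agent.KFlatLib.ext_amplitude_and_support h1 h2 N d hd l).1 hl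
      refine ⟨a1, ?_⟩
      by_contra hc
      have h := ((Groth.Agent.KFlatLib.depth_eq_iff_ext h1 h2 N t).1 ht).1 (-l).toNat (by omega)
      rw [show (-((-l).toNat : ℤ)) = l by omega] at h
      exact not_subsingleton _ h
    obtain ⟨b1, b2⟩ := amp (i - n p) (key _ (by rwa [add_sub_cancel]))
    obtain ⟨c1, c2⟩ := amp (j - n p) (key _ (by rwa [add_sub_cancel]))
    rw [hd]
    exact Nat.cast_le.2 (show ((k : ℤ) + i - j).toNat ≤ d by omega)
  · intro H p' hp'
    let p : PrimeSpectrum A := ⟨p', hp'⟩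
    let B := Localization.AtPrime p.asIdeal
    let N := LocalizedModule p.asIdeal.primeCompl M
    rcases subsingleton_or_nontrivial N with hsub | hnt
    · refine (min_le_right _ _).trans ?_
      rw [(Module.supportDim_eq_bot_iff_subsingleton B N).2 hsub]
      exact bot_le
    haveI := hnt
    haveI : Module.Finite B N :=
      Module.Finite.of_isLocalizedModule p.asIdeal.primeCompl (LocalizedModule.mkLinearMap p.asIdeal.primeCompl M)
    obtain ⟨ω', h1, h2, h3⟩ := Groth.Agent.PerfGen7.LocalizeDual.exists_local hω hn p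
    obtain ⟨d, hd⟩ := LC.exists_supportDim_eq_nat (R := B) N
    obtain ⟨t, ht⟩ := LC.exists_depth_eq_nat (R := B) N
    show min (k : WithBot ℕ∞) (Module.supportDim B N) ≤ ((LocCoh.depth B N : ℕ∞) : WithBot ℕ∞)
    rw [hd, ht]
    by_contra hc
    have htk : t < k ∧ t < d := by
      constructor <;> by_contra h <;> apply hc
      · exact (min_le_left _ _).trans (Nat.cast_le.2 (not_lt.1 h))
      · exact (min_le_right _ _).trans (Nat.cast_le.2 (not_lt.1 h))
    have key : ∀ l : ℤ, Nontrivial (Dual.inD B N ⟶ ω'⟦l⟧) → p ∈ Module.support A (Dual.inD A M ⟶ ω⟦n p + l⟧) :=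
      fun l hl => by
        obtain ⟨c⟩ := h3 M l
        exact Module.mem_support_iff.2 (c.toEquiv.nontrivial_congr.1 hl)
    have hi := key _ ((Groth.Agent.KFlatLib.depth_eq_iff_ext h1 h2 N t).1 ht).2
    have hj := key _ (top_nontrivial h1 h2 N d hd)
    have := H _ _ (by omega) p hi hj
    rw [hd] at this
    have h' := Nat.cast_le.1 this
    omega

end Groth.Agent.H1SkDual
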